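import Mathlib.CategoryTheory.EquivalenceRelation
import Mathlib.CategoryTheory.Functor.RegularEpi
import Mathlib.CategoryTheory.Sites.RegularEpi
import Mathlib.CategoryTheory.Sites.LeftExact
import Mathlib.CategoryTheory.Types.Epimorphisms
import Mathlib.CategoryTheory.Limits.Types.Pullbacks
import Mathlib.CategoryTheory.Limits.Types.Coequalizers

/-!
# Equivalence relations in presheaves and sheaves of sets are universally effective
-/

universe w v u

open CategoryTheory Limits Opposite

namespace Groth.ShfCat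

section General

variable {E : Type*} [Category E] {R X : E} {p₁ p₂ : R ⟶ X}

/-- A coequalizer of a reflexive pair is a pushout square. -/
lemma isPushout_of_isColimit_cofork (r : X ⟶ R) (h₁ : r ≫ p₁ = 𝟙 _) (h₂ : r ≫ p₂ = 𝟙 _)
    {B : E} (π : X ⟶ B) (w : p₁ ≫ π = p₂ ≫ π) (h : IsColimit (Cofork.ofπ π w)) :
    IsPushout p₁ p₂ π π := by
  have key (s : PushoutCocone p₁ p₂) : s.inl = s.inr := by
    have := r ≫= s.condition
    rwa [reassoc_of% h₁, reassoc_of% h₂] at this
  refine ⟨⟨w⟩, ⟨PushoutCocone.IsColimit.mk _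
    (fun s ↦ (Cofork.IsColimit.desc' h s.inl (by
      conv_rhs => rw [key s]
      exact s.condition)).1)
    (fun s ↦ (Cofork.IsColimit.desc' h s.inl _).2)
    (fun s ↦ ((Cofork.IsColimit.desc' h s.inl _).2).trans (key s))
    (fun s m hm _ ↦ Cofork.IsColimit.hom_ext h
      (hm.trans (Cofork.IsColimit.desc' h s.inl _).2.symm))⟩⟩

lemma jointlyMono_map {D : Type*} [Category D] (F : E ⥤ D) [HasBinaryProduct X X]
    [PreservesLimit (pair X X) F] [F.PreservesMonomorphisms] (h : JointlyMono₂ p₁ p₂) :
    JointlyMono₂ (F.map p₁) (F.map p₂) := by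
  have : Mono (prod.lift p₁ p₂) := ⟨fun f g hfg ↦ h.right_cancellation f g
    (by simpa only [Category.assoc, prod.lift_fst] using congr($hfg ≫ prod.fst))
    (by simpa only [Category.assoc, prod.lift_snd] using congr($hfg ≫ prod.snd))⟩
  refine ⟨fun Y f g h₁ h₂ ↦ ?_⟩
  rw [← cancel_mono (F.map (prod.lift p₁ p₂))]
  refine BinaryFan.IsLimit.hom_ext (mapIsLimitOfPreservesOfIsLimit F prod.fst prod.snd
    (prodIsProd X X)) ?_ ?_
  · show (f ≫ _) ≫ F.map prod.fst = (g ≫ _) ≫ F.map prod.fst
    rw [Category.assoc, Category.assoc, ← F.map_comp, prod.lift_fst]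
    exact h₁
  · show (f ≫ _) ≫ F.map prod.snd = (g ≫ _) ≫ F.map prod.snd
    rw [Category.assoc, Category.assoc, ← F.map_comp, prod.lift_snd]
    exact h₂

end General

section Presheaf

variable {C : Type u} [Category.{v} C] {R X : Cᵒᵖ ⥤ Type w} {p₁ p₂ : R ⟶ X}

lemma rel_equivalence (e : EquivalenceRelation p₁ p₂) (U : Cᵒᵖ) :
    Equivalence (TypeCat.Rel.ofPair (p₁.app U) (p₂.app U)) := by
  let ev := (evaluation Cᵒᵖ (Type w)).obj U
  have := jointlyMono_map ev e.toJointlyMono₂
  exact TypeCat.equivalence_of_equivalenceRelation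
    { __ := e.toReflexiveRelation.map ev
      __ := e.toSymmetricRelation.map ev
      __ := e.toTransitiveRelation.map ev }

lemma exists_of_π_eq (e : EquivalenceRelation p₁ p₂) (U : Cᵒᵖ) (a b : X.obj U)
    (h : (coequalizer.π p₁ p₂).app U a = (coequalizer.π p₁ p₂).app U b) :
    ∃ r : R.obj U, p₁.app U r = a ∧ p₂.app U r = b := by
  let ev := (evaluation Cᵒᵖ (Type w)).obj U
  have hc := isColimitCoforkMapOfIsColimit ev _ (coequalizerIsCoequalizer p₁ p₂)
  let rel := TypeCat.Rel.ofPair (p₁.app U) (p₂.app U)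
  let q : X.obj U ⟶ Quot rel := ↾(Quot.mk rel)
  have hq : p₁.app U ≫ q = p₂.app U ≫ q := by
    ext x
    exact Quot.sound ⟨x, rfl, rfl⟩
  obtain ⟨l, hl⟩ := Cofork.IsColimit.desc' hc q hq
  have : Quot.mk rel a = Quot.mk rel b :=
    (congr($hl a)).symm.trans ((congrArg l h).trans congr($hl b))
  exact (rel_equivalence e U).eqvGen_iff.mp (Quot.eqvGen_exact this)

lemma isKernelPair_coequalizer (e : EquivalenceRelation p₁ p₂) :
    IsKernelPair (coequalizer.π p₁ p₂) p₁ p₂ := by
  refine ⟨⟨coequalizer.condition p₁ p₂⟩, ⟨evaluationJointlyReflectsLimits _ fun U ↦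
    (isLimitMapConePullbackConeEquiv ((evaluation Cᵒᵖ (Type w)).obj U) _).symm
      (IsPullback.isLimit ((Types.isPullback_iff _ _ _ _).mpr ⟨?_, ?_, ?_⟩))⟩⟩
  · exact congrArg (fun f ↦ f.app U) (coequalizer.condition p₁ p₂)
  · intro x y h
    have := jointlyMono_map ((evaluation Cᵒᵖ (Type w)).obj U) e.toJointlyMono₂
    exact congr($(this.right_cancellation (↾(fun _ : PUnit.{w + 1} ↦ x)) (↾(fun _ ↦ y))
      (by ext; exact h.1) (by ext; exact h.2)) PUnit.unit)
  · intro a b h
    exact exists_of_π_eq e U a b h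

lemma epi_of_isPullback_presheaf {P Y Z W : Cᵒᵖ ⥤ Type w} {fst : P ⟶ Y} {snd : P ⟶ Z}
    {f : Y ⟶ W} {g : Z ⟶ W} (h : IsPullback fst snd f g) [Epi g] : Epi fst := by
  have : ∀ U, Epi (fst.app U) := fun U ↦
    haveI : Epi (((evaluation Cᵒᵖ (Type w)).obj U).map g) := inferInstance
    MorphismProperty.of_isPullback (P := MorphismProperty.epimorphisms (Type w))
      (h.map ((evaluation Cᵒᵖ (Type w)).obj U)).flip this
  exact NatTrans.epi_of_epi_app fst

/-- Equivalence relations in presheaves of sets are universally effective. -/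
theorem isUniversallyEffective_presheaf [hR : IsEquivalenceRelation p₁ p₂] :
    IsUniversallyEffectiveEquivalenceRelation p₁ p₂ := by
  obtain ⟨e⟩ := hR.nonempty_equivalenceRelation
  exact ⟨⟨{
    __ := e
    B := coequalizer p₁ p₂
    π := coequalizer.π p₁ p₂
    isKernelPair := isKernelPair_coequalizer e
    isPushout := isPushout_of_isColimit_cofork e.r e.reflexivity₁ e.reflexivity₂ _ _
      (coequalizerIsCoequalizer p₁ p₂)
    universally_effectiveEpi_π := fun X' Y' i₁ i₂ f' sq ↦ by
      have : Epi f' := epi_of_isPullback_presheaf sq.flip.flip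
      exact (isRegularEpi_iff_effectiveEpi f').mp (IsRegularEpiCategory.regularEpiOfEpi f') }⟩⟩

end Presheaf

section Sheaf

variable {C : Type u} [Category.{v} C] {J : GrothendieckTopology C} [HasSheafify J (Type w)]

lemma epi_of_isPullback_sheaf {P Y Z W : Sheaf J (Type w)} {fst : P ⟶ Y} {snd : P ⟶ Z}
    {f : Y ⟶ W} {g : Z ⟶ W} (h : IsPullback fst snd f g) [Epi g] : Epi fst := by
  let i := sheafToPresheaf J (Type w)
  let L := presheafToSheaf J (Type w)
  let ε := fun A : Sheaf J (Type w) ↦ asIso ((sheafificationAdjunction J (Type w)).counit.app A)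
  have nat {A B : Sheaf J (Type w)} (φ : A ⟶ B) : L.map (i.map φ) ≫ (ε B).hom = (ε A).hom ≫ φ :=
    (sheafificationAdjunction J (Type w)).counit.naturality φ
  have hg : L.map (i.map g) = (ε Z).hom ≫ g ≫ (ε W).inv := by
    rw [← Category.assoc, ← nat, Category.assoc, Iso.hom_inv_id, Category.comp_id]
  let p := factorThruImage (i.map g)
  let m := image.ι (i.map g)
  have : IsIso (L.map m) := by
    have : Epi (L.map (i.map g)) := by rw [hg]; infer_instance
    rw [← image.fac (i.map g), L.map_comp] at this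
    have : Epi (L.map m) := epi_of_epi (L.map p) _
    exact isIso_of_mono_of_epi _
  have sq := IsPullback.of_hasPullback (i.map f) m
  let p' : i.obj P ⟶ pullback (i.map f) m := pullback.lift (i.map fst) (i.map snd ≫ p) (by
    rw [Category.assoc, image.fac, ← i.map_comp, ← i.map_comp, h.w])
  have hp' : p' ≫ pullback.fst (i.map f) m = i.map fst := pullback.lift_fst _ _ _
  have sq' : IsPullback p' (i.map snd) (pullback.snd (i.map f) m) p :=
    IsPullback.of_right (by rw [hp', image.fac]; exact h.map i)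
      (pullback.lift_snd _ _ _) sq
  have : Epi p' := epi_of_isPullback_presheaf sq'
  have : IsIso (L.map (pullback.fst (i.map f) m)) := (sq.map L).isIso_fst_of_isIso
  have : Epi (L.map (i.map fst)) := by rw [← hp', L.map_comp]; infer_instance
  have hf : fst = (ε P).inv ≫ L.map (i.map fst) ≫ (ε Y).hom := by simp [nat]
  rw [hf]
  infer_instance

/-- Equivalence relations in sheaves of sets are universally effective. -/
theorem isUniversallyEffective_sheaf {R X : Sheaf J (Type w)} {p₁ p₂ : R ⟶ X}
    [hR : IsEquivalenceRelation p₁ p₂] : IsUniversallyEffectiveEquivalenceRelation p₁ p₂ := by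
  obtain ⟨e⟩ := hR.nonempty_equivalenceRelation
  let i := sheafToPresheaf J (Type w)
  let L := presheafToSheaf J (Type w)
  have := jointlyMono_map i e.toJointlyMono₂
  have e' : EquivalenceRelation (i.map p₁) (i.map p₂) :=
    { __ := e.toReflexiveRelation.map i
      __ := e.toSymmetricRelation.map i
      __ := e.toTransitiveRelation.map i }
  let q := coequalizer.π (i.map p₁) (i.map p₂)
  let ε := fun A : Sheaf J (Type w) ↦ asIso ((sheafificationAdjunction J (Type w)).counit.app A)
  let π : X ⟶ L.obj (coequalizer (i.map p₁) (i.map p₂)) := (ε X).inv ≫ L.map q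
  have nat {A B : Sheaf J (Type w)} (φ : A ⟶ B) : L.map (i.map φ) ≫ (ε B).hom = (ε A).hom ≫ φ :=
    (sheafificationAdjunction J (Type w)).counit.naturality φ
  have hk : IsKernelPair π p₁ p₂ :=
    ((isKernelPair_coequalizer e').map L).of_iso (ε R) (ε X) (ε X) (Iso.refl _)
      (nat p₁) (nat p₂) (by simp [π, q, ε]) (by simp [π, q, ε])
  have hp : IsPushout p₁ p₂ π π :=
    ((isPushout_of_isColimit_cofork e'.r e'.reflexivity₁ e'.reflexivity₂ q _
      (coequalizerIsCoequalizer _ _)).map L).of_iso (ε R) (ε X) (ε X) (Iso.refl _)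
      (nat p₁) (nat p₂) (by simp [π, q, ε]) (by simp [π, q, ε])
  have : Epi π := epi_of_isColimit_cofork hp.isLimitFork
  exact ⟨⟨{
    __ := e
    B := _
    π := π
    isKernelPair := hk
    isPushout := hp
    universally_effectiveEpi_π := fun X' Y' i₁ i₂ f' sq ↦ by
      have : Epi f' := epi_of_isPullback_sheaf sq.flip.flip
      exact (isRegularEpi_iff_effectiveEpi f').mp (IsRegularEpiCategory.regularEpiOfEpi f') }⟩⟩

end Sheaf

end Groth.ShfCat
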