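import Groth.Agent.ShfCat.Exact
import Mathlib.CategoryTheory.Subobject.FactorThru

/-!
# Generalized elements in set-like categories such as sheaves of sets: epi covers, images, descent of subobjects
-/

universe w v u

open CategoryTheory Limits Opposite

namespace Groth.ShfCat

/-- A category in which epimorphisms, monomorphisms and equivalence relations behave as for sets. -/
class SetLike (E : Type*) [Category E] : Prop where
  hasPullbacks : HasPullbacks E
  balanced : Balanced E
  epi_of_isPullback : ∀ {P Y Z W : E} {fst : P ⟶ Y} {snd : P ⟶ Z} {f : Y ⟶ W} {g : Z ⟶ W},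
    IsPullback fst snd f g → Epi g → Epi fst
  effectiveEpi_of_epi : ∀ {X B : E} (e : X ⟶ B), Epi e → EffectiveEpi e
  epi_mono : ∀ {X B : E} (f : X ⟶ B),
    ∃ (I : E) (p : X ⟶ I) (m : I ⟶ B), Epi p ∧ Mono m ∧ p ≫ m = f
  equivRel : ∀ {R X : E} (p q : R ⟶ X), IsEquivalenceRelation p q →
    IsUniversallyEffectiveEquivalenceRelation p q

section Sheaf

variable {C : Type u} [Category.{v} C] {J : GrothendieckTopology C} [HasSheafify J (Type w)]

/-- Every morphism factors as an epimorphism followed by a monomorphism. -/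
lemma exists_epi_mono_sheaf {X B : Sheaf J (Type w)} (f : X ⟶ B) :
    ∃ (I : Sheaf J (Type w)) (p : X ⟶ I) (m : I ⟶ B), Epi p ∧ Mono m ∧ p ≫ m = f := by
  let i := sheafToPresheaf J (Type w)
  let L := presheafToSheaf J (Type w)
  let ε := fun A : Sheaf J (Type w) ↦ asIso ((sheafificationAdjunction J (Type w)).counit.app A)
  have nat : L.map (i.map f) ≫ (ε B).hom = (ε X).hom ≫ f :=
    (sheafificationAdjunction J (Type w)).counit.naturality f
  refine ⟨L.obj (image (i.map f)), (ε X).inv ≫ L.map (factorThruImage (i.map f)),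
    L.map (image.ι (i.map f)) ≫ (ε B).hom, inferInstance, inferInstance, ?_⟩
  rw [Category.assoc, ← L.map_comp_assoc, image.fac, nat, Iso.inv_hom_id_assoc]

instance : SetLike (Sheaf J (Type w)) where
  hasPullbacks := inferInstance
  balanced := inferInstance
  epi_of_isPullback h _ := epi_of_isPullback_sheaf h
  effectiveEpi_of_epi e _ :=
    (isRegularEpi_iff_effectiveEpi e).mp (IsRegularEpiCategory.regularEpiOfEpi e)
  epi_mono := exists_epi_mono_sheaf
  equivRel _ _ _ := isUniversallyEffective_sheaf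

end Sheaf

variable {E : Type*} [Category E] [SetLike E]

instance (priority := 100) : HasPullbacks E := SetLike.hasPullbacks
instance (priority := 100) : Balanced E := SetLike.balanced

lemma epi_of_isPullback_setLike {P Y Z W : E} {fst : P ⟶ Y} {snd : P ⟶ Z} {f : Y ⟶ W}
    {g : Z ⟶ W} (h : IsPullback fst snd f g) [Epi g] : Epi fst :=
  SetLike.epi_of_isPullback h inferInstance

/-- Every morphism factors as an epimorphism followed by a monomorphism. -/
lemma exists_epi_mono {X B : E} (f : X ⟶ B) :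
    ∃ (I : E) (p : X ⟶ I) (m : I ⟶ B), Epi p ∧ Mono m ∧ p ≫ m = f :=
  SetLike.epi_mono f

/-- Generalized elements lift along epimorphisms after an epimorphic cover. -/
lemma exists_lift {X B : E} (e : X ⟶ B) [Epi e] {W : E} (a : W ⟶ B) :
    ∃ (W' : E) (c : W' ⟶ W) (x : W' ⟶ X), Epi c ∧ x ≫ e = c ≫ a :=
  ⟨pullback a e, pullback.fst a e, pullback.snd a e,
    epi_of_isPullback_setLike (IsPullback.of_hasPullback a e), pullback.condition.symm⟩

/-- Two generalized elements lift along epimorphisms after a common epimorphic cover. -/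
lemma exists_lift₂ {X B X' B' : E} (e : X ⟶ B) [Epi e] (e' : X' ⟶ B') [Epi e']
    {W : E} (a : W ⟶ B) (a' : W ⟶ B') :
    ∃ (W' : E) (c : W' ⟶ W) (x : W' ⟶ X) (x' : W' ⟶ X'),
      Epi c ∧ x ≫ e = c ≫ a ∧ x' ≫ e' = c ≫ a' := by
  obtain ⟨W₁, c₁, x, h₁, hx⟩ := exists_lift e a
  obtain ⟨W₂, c₂, x', h₂, hx'⟩ := exists_lift e' (c₁ ≫ a')
  refine ⟨W₂, c₂ ≫ c₁, c₂ ≫ x, x', epi_comp _ _, ?_, ?_⟩
  · rw [Category.assoc, hx, Category.assoc]
  · rw [hx', Category.assoc]

/-- A generalized element lies in a subobject if it does so after an epimorphic cover. -/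
lemma factor_of_epi {W' W M X : E} (c : W' ⟶ W) [Epi c] (m : M ⟶ X) [Mono m]
    (a : W ⟶ X) (b : W' ⟶ M) (h : b ≫ m = c ≫ a) : ∃ t : W ⟶ M, t ≫ m = a := by
  have hc : pullback.lift c b h.symm ≫ pullback.fst a m = c := pullback.lift_fst _ _ _
  have : Epi (pullback.fst a m) := epi_of_epi_fac hc
  have : IsIso (pullback.fst a m) := isIso_of_mono_of_epi _
  exact ⟨inv (pullback.fst a m) ≫ pullback.snd a m, by
    rw [Category.assoc, ← pullback.condition, IsIso.inv_hom_id_assoc]⟩

/-- Morphisms descend along epimorphisms. -/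
lemma exists_desc {X B T : E} (e : X ⟶ B) [Epi e] (f : X ⟶ T)
    (h : ∀ (W : E) (a b : W ⟶ X), a ≫ e = b ≫ e → a ≫ f = b ≫ f) :
    ∃ t : B ⟶ T, e ≫ t = f :=
  haveI : EffectiveEpi e := SetLike.effectiveEpi_of_epi e inferInstance
  ⟨EffectiveEpi.desc e f fun a b hab ↦ h _ a b hab, EffectiveEpi.fac _ _ _⟩

lemma factors_iff' {X W : E} (P : Subobject X) (f : W ⟶ X) :
    P.Factors f ↔ ∃ g : W ⟶ (P : E), g ≫ P.arrow = f :=
  Subobject.factors_iff P f

/-- Membership of a generalized element in a pulled back subobject. -/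
lemma factors_pullback_iff {X B : E} (f : X ⟶ B) (K : Subobject B)
    {W : E} (a : W ⟶ X) :
    ((Subobject.pullback f).obj K).Factors a ↔ K.Factors (a ≫ f) := by
  refine ⟨fun h ↦ ?_, fun h ↦ ?_⟩
  · obtain ⟨t, ht⟩ := (factors_iff' _ _).mp h
    exact (factors_iff' _ _).mpr ⟨t ≫ Subobject.pullbackπ f K,
      show (t ≫ Subobject.pullbackπ f K) ≫ K.arrow = a ≫ f by
        rw [Category.assoc, (Subobject.isPullback f K).w, ← Category.assoc]
        exact congrArg (· ≫ f) ht⟩
  · obtain ⟨t, ht⟩ := (factors_iff' _ _).mp h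
    exact (factors_iff' _ _).mpr
      ⟨(Subobject.isPullback f K).lift t a ht, (Subobject.isPullback f K).lift_snd _ _ _⟩

/-- Subobjects are determined by their pullback along an epimorphism. -/
lemma le_of_pullback_le {X B : E} (e : X ⟶ B) [Epi e] {K K' : Subobject B}
    (h : (Subobject.pullback e).obj K ≤ (Subobject.pullback e).obj K') : K ≤ K' := by
  obtain ⟨W', c, x, hc, hx⟩ := exists_lift e K.arrow
  have hf : ((Subobject.pullback e).obj K).Factors x := by
    rw [factors_pullback_iff, hx]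
    exact (factors_iff' _ _).mpr ⟨c, rfl⟩
  have hf' := Subobject.factors_of_le x h hf
  rw [factors_pullback_iff, hx] at hf'
  obtain ⟨b, hb⟩ := (factors_iff' _ _).mp hf'
  obtain ⟨t, ht⟩ := factor_of_epi c K'.arrow K.arrow b hb
  exact Subobject.le_of_comm t ht

lemma pullback_injective {X B : E} (e : X ⟶ B) [Epi e] :
    Function.Injective (Subobject.pullback e).obj := fun _ _ h ↦
  le_antisymm (le_of_pullback_le e h.le) (le_of_pullback_le e h.ge)

/-- Descent of subobjects along an epimorphism. -/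
theorem exists_subobject_pullback_eq {X B : E} (e : X ⟶ B) (K : Subobject X)
    (h : ∀ (W : E) (a b : W ⟶ X), a ≫ e = b ≫ e → K.Factors a → K.Factors b) :
    ∃ K' : Subobject B, (Subobject.pullback e).obj K' = K ∧
      ∃ p : (K : E) ⟶ K', Epi p ∧ p ≫ K'.arrow = K.arrow ≫ e := by
  obtain ⟨I, p, m, hp, hm, hpm⟩ := exists_epi_mono (K.arrow ≫ e)
  let K' := Subobject.mk m
  let q : (K : E) ⟶ K' := p ≫ (Subobject.underlyingIso m).inv
  have hq : q ≫ K'.arrow = K.arrow ≫ e := by
    rw [Category.assoc, Subobject.underlyingIso_arrow, hpm]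
  have : Epi q := epi_comp _ _
  refine ⟨K', le_antisymm ?_ ?_, q, this, hq⟩
  · set P := (Subobject.pullback e).obj K'
    obtain ⟨W', c, k, hc, hk⟩ := exists_lift q (Subobject.pullbackπ e K')
    have he : (k ≫ K.arrow) ≫ e = (c ≫ P.arrow) ≫ e := by
      rw [Category.assoc, ← hq, ← Category.assoc, hk, Category.assoc,
        (Subobject.isPullback e K').w, Category.assoc]
    obtain ⟨b, hb⟩ := (factors_iff' _ _).mp
      (h _ _ _ he ((factors_iff' _ _).mpr ⟨k, rfl⟩))
    obtain ⟨t, ht⟩ := factor_of_epi c K.arrow P.arrow b hb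
    exact Subobject.le_of_comm t ht
  · exact Subobject.le_of_comm ((Subobject.isPullback e K').lift q K.arrow hq)
      ((Subobject.isPullback e K').lift_snd _ _ _)

end Groth.ShfCat
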