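import Groth.Agent.ShfCat.Epi
import Mathlib.CategoryTheory.Monoidal.Cartesian.Grp
import Mathlib.Tactic.Group

/-!
# Quotients of sheaves of groups by subgroup sheaves
-/

universe w v u₁

open CategoryTheory Limits MonoidalCategory CartesianMonoidalCategory
open scoped CategoryTheory.MonObj

namespace Groth.ShfCat

section General

variable {E : Type*} [Category E] [CartesianMonoidalCategory E] {H G : E} [GrpObj H] [GrpObj G]
  (u : H ⟶ G)

/-- The right translation action. -/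
abbrev rAct : G ⊗ H ⟶ G := (G ◁ u) ≫ μ[G]

lemma lift_rAct {W : E} (g : W ⟶ G) (h : W ⟶ H) : lift g h ≫ rAct u = g * (h ≫ u) := by
  rw [Hom.mul_def, ← Category.assoc, lift_whiskerLeft]

lemma comp_rAct {W : E} (x : W ⟶ G ⊗ H) :
    x ≫ rAct u = (x ≫ fst G H) * (x ≫ snd G H ≫ u) := by
  conv_lhs => rw [← Category.comp_id x, ← lift_fst_snd, comp_lift]
  rw [lift_rAct, Category.assoc]

lemma fst_eq_rAct_right {W : E} [IsMonHom u] (g : W ⟶ G) :
    lift g (1 : W ⟶ H) ≫ rAct u = g := by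
  rw [lift_rAct, MonObj.one_comp, mul_one]

theorem isEquivalenceRelation_rAct [Mono u] [IsMonHom u] [HasPullback (rAct u) (fst G H)] :
    IsEquivalenceRelation (fst G H) (rAct u) := by
  refine ⟨⟨{
    right_cancellation := fun W f g h₁ h₂ ↦ by
      rw [comp_rAct, comp_rAct, h₁, mul_right_inj, ← Category.assoc, ← Category.assoc,
        cancel_mono] at h₂
      ext : 1 <;> assumption
    r := lift (𝟙 G) 1
    reflexivity₁ := lift_fst _ _
    reflexivity₂ := fst_eq_rAct_right u _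
    s := lift (rAct u) (snd G H)⁻¹
    symmetry₁ := lift_fst _ _
    symmetry₂ := ?_
    c := pullback.cone _ _
    isLimit := pullback.isLimit _ _
    t := lift (pullback.fst (rAct u) (fst G H) ≫ fst G H)
      (pullback.fst (rAct u) (fst G H) ≫ snd G H * pullback.snd (rAct u) (fst G H) ≫ snd G H)
    transitivity₁ := lift_fst _ _
    transitivity₂ := ?_ }⟩⟩
  · have h := comp_rAct u (𝟙 (G ⊗ H))
    simp only [Category.id_comp] at h
    rw [lift_rAct, GrpObj.inv_comp, h, mul_inv_cancel_right]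
  · show lift _ _ ≫ rAct u = pullback.snd (rAct u) (fst G H) ≫ rAct u
    rw [lift_rAct, MonObj.mul_comp, ← mul_assoc, Category.assoc, Category.assoc,
      ← comp_rAct, pullback.condition, comp_rAct]

end General

variable {E : Type*} [Category E] [CartesianMonoidalCategory E] [SetLike E] [HasCoequalizers E]
  {H G : E} [GrpObj H] [GrpObj G] (u : H ⟶ G)

/-- The projection to the quotient. -/
noncomputable abbrev qπ : G ⟶ coequalizer (fst G H) (rAct u) := coequalizer.π (fst G H) (rAct u)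

lemma mul_comp_qπ {W : E} (a : W ⟶ G) (h : W ⟶ H) :
    (a * (h ≫ u)) ≫ qπ u = a ≫ qπ u := by
  rw [← lift_rAct, Category.assoc, ← coequalizer.condition (fst G H) (rAct u), lift_fst_assoc]

variable [Mono u] [IsMonHom u]

lemma exists_of_qπ_eq {W : E} {a b : W ⟶ G} (hab : a ≫ qπ u = b ≫ qπ u) :
    ∃ h : W ⟶ H, a * (h ≫ u) = b := by
  have := isEquivalenceRelation_rAct u
  obtain ⟨e⟩ := (SetLike.equivRel (fst G H) (rAct u) this
    ).nonempty_universallyEffectiveEquivalenceRelation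
  obtain ⟨l, hl⟩ := Cofork.IsColimit.desc' (coequalizerIsCoequalizer (fst G H) (rAct u)) e.π
    e.isPushout.w
  have hl' : qπ u ≫ l = e.π := hl
  obtain ⟨r, h₁, h₂⟩ := e.isKernelPair.lift' a b (by
    rw [← hl', reassoc_of% hab])
  refine ⟨r ≫ snd G H, ?_⟩
  rw [Category.assoc, ← h₁, ← comp_rAct, h₂]

omit [Mono u] [IsMonHom u] in
lemma epi_tensorHom {X B X' B' : E} (e : X ⟶ B) [Epi e] (e' : X' ⟶ B') [Epi e'] :
    Epi (e ⊗ₘ e') := by
  obtain ⟨W', c, x, x', hc, hx, hx'⟩ := exists_lift₂ e e' (fst B B') (snd B B')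
  exact epi_of_epi_fac (f := lift x x') (h := c) (by
    rw [lift_map, hx, hx', ← comp_lift, lift_fst_snd, Category.comp_id])

/-- The left action on the quotient. -/
theorem exists_lAct : ∃ act : G ⊗ coequalizer (fst G H) (rAct u) ⟶ coequalizer (fst G H) (rAct u),
    μ[G] ≫ qπ u = (G ◁ qπ u) ≫ act := by
  have : Epi (G ◁ qπ u) := by rw [← id_tensorHom]; exact epi_tensorHom _ _
  obtain ⟨t, ht⟩ := exists_desc (G ◁ qπ u) (μ[G] ≫ qπ u) fun W a b hab ↦ by
    have h₁ := congr($hab ≫ fst _ _)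
    have h₂ := congr($hab ≫ snd _ _)
    simp only [Category.assoc, whiskerLeft_fst, whiskerLeft_snd] at h₁ h₂
    obtain ⟨h, hh⟩ := exists_of_qπ_eq u (a := a ≫ snd G G) (b := b ≫ snd G G)
      (by simpa only [Category.assoc] using h₂)
    have key : ∀ x : W ⟶ G ⊗ G, x ≫ μ[G] ≫ qπ u = ((x ≫ fst G G) * (x ≫ snd G G)) ≫ qπ u :=
      fun x ↦ by rw [Hom.mul_def, ← comp_lift, lift_fst_snd, Category.comp_id, Category.assoc]
    rw [key, key, ← hh, ← h₁, ← mul_assoc, mul_comp_qπ]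
  exact ⟨t, ht.symm⟩

/-- The unique left action on the quotient making the projection equivariant. -/
theorem existsUnique_lAct :
    ∃! act : G ⊗ coequalizer (fst G H) (rAct u) ⟶ coequalizer (fst G H) (rAct u),
      (η[G] ▷ coequalizer (fst G H) (rAct u)) ≫ act = (λ_ (coequalizer (fst G H) (rAct u))).hom ∧
      (μ[G] ▷ coequalizer (fst G H) (rAct u)) ≫ act =
        (α_ G G (coequalizer (fst G H) (rAct u))).hom ≫ (G ◁ act) ≫ act ∧
      μ[G] ≫ qπ u = (G ◁ qπ u) ≫ act := by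
  obtain ⟨act, hact⟩ := exists_lAct u
  have (Z : E) : Epi (Z ◁ qπ u) := by rw [← id_tensorHom]; exact epi_tensorHom _ _
  refine ⟨act, ⟨?_, ?_, hact⟩, fun a ha ↦ (cancel_epi (G ◁ qπ u)).mp (ha.2.2.symm.trans hact)⟩
  · rw [← cancel_epi (𝟙_ E ◁ qπ u), whisker_exchange_assoc, ← hact, ← Category.assoc,
      MonObj.one_mul, leftUnitor_naturality]
  · rw [← cancel_epi ((G ⊗ G) ◁ qπ u), whisker_exchange_assoc, ← hact, ← Category.assoc,
      MonObj.mul_assoc, Category.assoc, Category.assoc, associator_naturality_right_assoc,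
      ← MonoidalCategory.whiskerLeft_comp_assoc, ← hact,
      MonoidalCategory.whiskerLeft_comp_assoc, ← hact]

variable (hn : ∀ (Y : E) (g : Y ⟶ G) (h : Y ⟶ H),
  ∃ h' : Y ⟶ H, g * (h ≫ u) * g⁻¹ = h' ≫ u)

include hn in
/-- The multiplication on the quotient by a normal subgroup. -/
theorem exists_qMul : ∃ m : coequalizer (fst G H) (rAct u) ⊗ coequalizer (fst G H) (rAct u) ⟶
    coequalizer (fst G H) (rAct u), (qπ u ⊗ₘ qπ u) ≫ m = μ[G] ≫ qπ u := by
  have := epi_tensorHom (qπ u) (qπ u)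
  refine exists_desc _ _ fun W a b hab ↦ ?_
  have h₁ := congr($hab ≫ fst _ _)
  have h₂ := congr($hab ≫ snd _ _)
  simp only [Category.assoc, tensorHom_fst, tensorHom_snd] at h₁ h₂
  obtain ⟨x, hx⟩ := exists_of_qπ_eq u (a := a ≫ fst G G) (b := b ≫ fst G G)
    (by simpa only [Category.assoc] using h₁)
  obtain ⟨y, hy⟩ := exists_of_qπ_eq u (a := a ≫ snd G G) (b := b ≫ snd G G)
    (by simpa only [Category.assoc] using h₂)
  obtain ⟨z, hz⟩ := hn W (a ≫ snd G G)⁻¹ x
  have key : ∀ x : W ⟶ G ⊗ G, x ≫ μ[G] ≫ qπ u = ((x ≫ fst G G) * (x ≫ snd G G)) ≫ qπ u :=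
    fun x ↦ by rw [Hom.mul_def, ← comp_lift, lift_fst_snd, Category.comp_id, Category.assoc]
  have : (b ≫ fst G G) * (b ≫ snd G G) =
      (a ≫ fst G G) * (a ≫ snd G G) * ((z * y) ≫ u) := by
    rw [MonObj.mul_comp, ← hz, ← hx, ← hy]
    group
  rw [key, key, this, mul_comp_qπ]

include hn in
/-- The inversion on the quotient by a normal subgroup. -/
theorem exists_qInv : ∃ i : coequalizer (fst G H) (rAct u) ⟶ coequalizer (fst G H) (rAct u),
    qπ u ≫ i = ι[G] ≫ qπ u := by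
  refine exists_desc _ _ fun W a b hab ↦ ?_
  obtain ⟨x, hx⟩ := exists_of_qπ_eq u hab
  obtain ⟨z, hz⟩ := hn W a x⁻¹
  have : b⁻¹ = a⁻¹ * (z ≫ u) := by
    rw [← hz, ← hx, GrpObj.inv_comp]
    group
  rw [← Category.assoc, ← Category.assoc, ← Hom.inv_def, ← Hom.inv_def, this, mul_comp_qπ]

include hn in
/-- The group structure on the quotient by a normal subgroup. -/
theorem existsUnique_grpObj : ∃! str : GrpObj (coequalizer (fst G H) (rAct u)),
    @IsMonHom _ _ _ G (coequalizer (fst G H) (rAct u)) _ str.toMonObj (qπ u) := by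
  obtain ⟨m, hm⟩ := exists_qMul u hn
  obtain ⟨i, hi⟩ := exists_qInv u hn
  let Q := coequalizer (fst G H) (rAct u)
  have hm' {W : E} (a b : W ⟶ G) :
      lift (a ≫ qπ u) (b ≫ qπ u) ≫ m = (a * b) ≫ qπ u := by
    rw [← lift_map_assoc, hm, Hom.mul_def, Category.assoc]
  have h1 : ∀ {W : E} (x : W ⟶ Q),
      lift (toUnit W ≫ η[G] ≫ qπ u) x ≫ m = x := fun {W} x ↦ by
    obtain ⟨W', c, a, hc, ha⟩ := exists_lift (qπ u) x
    rw [← cancel_epi c, comp_lift_assoc, ← ha]
    have : c ≫ toUnit W ≫ η[G] ≫ qπ u = (1 : W' ⟶ G) ≫ qπ u := by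
      rw [Hom.one_def, ← Category.assoc c, comp_toUnit, Category.assoc]
    rw [this, hm', one_mul]
  have h2 : ∀ {W : E} (x : W ⟶ Q),
      lift x (toUnit W ≫ η[G] ≫ qπ u) ≫ m = x := fun {W} x ↦ by
    obtain ⟨W', c, a, hc, ha⟩ := exists_lift (qπ u) x
    rw [← cancel_epi c, comp_lift_assoc, ← ha]
    have : c ≫ toUnit W ≫ η[G] ≫ qπ u = (1 : W' ⟶ G) ≫ qπ u := by
      rw [Hom.one_def, ← Category.assoc c, comp_toUnit, Category.assoc]
    rw [this, hm', mul_one]
  have h3 : ∀ {W : E} (x y z : W ⟶ Q),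
      lift (lift x y ≫ m) z ≫ m = lift x (lift y z ≫ m) ≫ m := fun {W} x y z ↦ by
    obtain ⟨W₁, c₁, a, b, hc₁, ha, hb⟩ := exists_lift₂ (qπ u) (qπ u) x y
    obtain ⟨W₂, c₂, d, hc₂, hd⟩ := exists_lift (qπ u) (c₁ ≫ z)
    have ha' : (c₂ ≫ a) ≫ qπ u = c₂ ≫ c₁ ≫ x := by rw [Category.assoc, ha]
    have hb' : (c₂ ≫ b) ≫ qπ u = c₂ ≫ c₁ ≫ y := by rw [Category.assoc, hb]
    rw [← cancel_epi c₁, ← cancel_epi c₂]
    simp only [comp_lift_assoc, ← ha', ← hb', ← hd, hm', mul_assoc]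
  let S : MonObj Q :=
    { one := η[G] ≫ qπ u
      mul := m
      one_mul := by
        conv_lhs => rw [← Category.id_comp (_ ▷ _), ← lift_fst_snd, lift_whiskerRight]
        rw [leftUnitor_hom, toUnit_unique (fst (𝟙_ _) Q) (toUnit _)]
        exact h1 _
      mul_one := by
        conv_lhs => rw [← Category.id_comp (_ ◁ _), ← lift_fst_snd, lift_whiskerLeft]
        rw [rightUnitor_hom, toUnit_unique (snd Q (𝟙_ _)) (toUnit _)]
        exact h2 _
      mul_assoc := by
        have hid : 𝟙 ((Q ⊗ Q) ⊗ Q) = lift (lift (fst _ _ ≫ fst Q Q) (fst _ _ ≫ snd Q Q)) (snd _ _) := by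
          ext : 2 <;> simp
        rw [← Category.id_comp (m ▷ Q), ← Category.id_comp (α_ Q Q Q).hom, hid,
          Category.assoc, Category.assoc, lift_whiskerRight_assoc, lift_lift_associator_hom_assoc,
          lift_whiskerLeft_assoc, h3] }
  let str : GrpObj Q :=
    { __ := S
      inv := i
      left_inv := by
        show lift i (𝟙 Q) ≫ m = toUnit Q ≫ η[G] ≫ qπ u
        rw [← cancel_epi (qπ u), comp_lift_assoc, hi, Category.comp_id]
        have := hm' (ι[G]) (𝟙 G)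
        rw [Category.id_comp] at this
        rw [this, Hom.mul_def, GrpObj.left_inv]
        rw [← Category.assoc (qπ u), comp_toUnit, Category.assoc]
      right_inv := by
        show lift (𝟙 Q) i ≫ m = toUnit Q ≫ η[G] ≫ qπ u
        rw [← cancel_epi (qπ u), comp_lift_assoc, hi, Category.comp_id]
        have := hm' (𝟙 G) (ι[G])
        rw [Category.id_comp] at this
        rw [this, Hom.mul_def, GrpObj.right_inv]
        rw [← Category.assoc (qπ u), comp_toUnit, Category.assoc] }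
  refine ⟨str, { one_hom := rfl, mul_hom := hm.symm }, fun str' h ↦ GrpObj.ext _ _ (MonObj.ext _ _ ?_)⟩
  have := epi_tensorHom (qπ u) (qπ u)
  exact (cancel_epi (qπ u ⊗ₘ qπ u)).mp (h.mul_hom.symm.trans hm.symm)

end Groth.ShfCat
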