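import Groth.Agent.ShfCat.GrpQuot

/-!
# Subgroups and iterated quotients of group objects in a set-like category
-/

open CategoryTheory Limits MonoidalCategory CartesianMonoidalCategory
open scoped CategoryTheory.MonObj

namespace Groth.ShfCat

variable {E : Type*} [Category E] [CartesianMonoidalCategory E] [SetLike E] [HasCoequalizers E]

/-- A generalized element lies in a subobject if it does so after an epimorphic cover. -/
lemma factors_of_epi {X W' W : E} (K : Subobject X) (c : W' ⟶ W) [Epi c] (a : W ⟶ X)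
    (h : K.Factors (c ≫ a)) : K.Factors a := by
  obtain ⟨b, hb⟩ := (factors_iff' _ _).mp h
  exact (factors_iff' _ _).mpr (factor_of_epi c K.arrow a b hb)

omit [CartesianMonoidalCategory E] [SetLike E] [HasCoequalizers E] in
lemma factors_comp {X W' W : E} (K : Subobject X) (c : W' ⟶ W) {a : W ⟶ X} (h : K.Factors a) :
    K.Factors (c ≫ a) := Subobject.factors_of_factors_right c h

section Subgroup

variable {G : E} [GrpObj G]

/-- Closure of a subobject under the group operations. -/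
structure IsClosedGrp (K : Subobject G) : Prop where
  one : K.Factors (η[G])
  mul : ∀ {W : E} {a b : W ⟶ G}, K.Factors a → K.Factors b → K.Factors (a * b)
  inv : ∀ {W : E} {a : W ⟶ G}, K.Factors a → K.Factors a⁻¹

omit [SetLike E] [HasCoequalizers E] in
lemma IsClosedGrp.factors_one {K : Subobject G} (h : IsClosedGrp K) (W : E) :
    K.Factors (1 : W ⟶ G) := by
  rw [Hom.one_def]
  exact Subobject.factors_of_factors_right _ h.one

lemma isClosedGrp_of_isMonHom {K : Subobject G} (str : GrpObj (K : E))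
    (h : @IsMonHom _ _ _ _ _ str.toMonObj _ K.arrow) : IsClosedGrp K := by
  haveI := h
  refine ⟨?_, fun {W a b} ha hb ↦ ?_, fun {W a} ha ↦ ?_⟩
  · exact (factors_iff' _ _).mpr ⟨η, IsMonHom.one_hom _⟩
  · obtain ⟨a, rfl⟩ := (factors_iff' _ _).mp ha
    obtain ⟨b, rfl⟩ := (factors_iff' _ _).mp hb
    exact (factors_iff' _ _).mpr ⟨a * b, MonObj.mul_comp _ _ _⟩
  · obtain ⟨a, rfl⟩ := (factors_iff' _ _).mp ha
    exact (factors_iff' _ _).mpr ⟨a⁻¹, GrpObj.inv_comp _ _⟩

lemma exists_grpObj_of_isClosedGrp {K : Subobject G} (h : IsClosedGrp K) :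
    ∃ str : GrpObj (K : E), @IsMonHom _ _ _ _ _ str.toMonObj _ K.arrow := by
  have hK : ∀ {W : E} (a : W ⟶ (K : E)), K.Factors (a ≫ K.arrow) :=
    fun a ↦ (factors_iff' _ _).mpr ⟨a, rfl⟩
  obtain ⟨e, he⟩ := (factors_iff' _ _).mp h.one
  obtain ⟨m, hm⟩ := (factors_iff' _ _).mp
    (h.mul (hK (fst (K : E) (K : E))) (hK (snd (K : E) (K : E))))
  obtain ⟨i, hi⟩ := (factors_iff' _ _).mp (h.inv (hK (𝟙 (K : E))))
  have hm' {W : E} (a b : W ⟶ (K : E)) :
      lift a b ≫ m ≫ K.arrow = (a ≫ K.arrow) * (b ≫ K.arrow) := by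
    rw [hm, MonObj.comp_mul, lift_fst_assoc, lift_snd_assoc]
  have hi' : i ≫ K.arrow = K.arrow⁻¹ := by rw [hi, Category.id_comp]
  let S : MonObj (K : E) :=
    { one := e
      mul := m
      one_mul := by
        rw [← cancel_mono K.arrow]
        conv_lhs => rw [← Category.id_comp (_ ▷ _), ← lift_fst_snd, lift_whiskerRight]
        rw [leftUnitor_hom, Category.assoc, hm', Category.assoc, he, MonObj.one_eq_one,
          MonObj.comp_one, one_mul]
      mul_one := by
        rw [← cancel_mono K.arrow]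
        conv_lhs => rw [← Category.id_comp (_ ◁ _), ← lift_fst_snd, lift_whiskerLeft]
        rw [rightUnitor_hom, Category.assoc, hm', Category.assoc, he, MonObj.one_eq_one,
          MonObj.comp_one, mul_one]
      mul_assoc := by
        have hid : 𝟙 (((K : E) ⊗ K) ⊗ K) =
            lift (lift (fst _ _ ≫ fst _ _) (fst _ _ ≫ snd _ _)) (snd _ _) := by
          ext : 2 <;> simp
        rw [← cancel_mono K.arrow, ← Category.id_comp (m ▷ (K : E)),
          ← Category.id_comp (α_ (K : E) K K).hom, hid]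
        simp only [Category.assoc, lift_whiskerRight_assoc, lift_lift_associator_hom_assoc,
          lift_whiskerLeft_assoc, hm', mul_assoc] }
  refine ⟨{ __ := S
            inv := i
            left_inv := ?_
            right_inv := ?_ }, { one_hom := he, mul_hom := ?_ }⟩
  · show lift i (𝟙 _) ≫ m = toUnit _ ≫ e
    rw [← cancel_mono K.arrow, Category.assoc, hm', hi', Category.id_comp, inv_mul_cancel,
      Category.assoc, he, Hom.one_def]
  · show lift (𝟙 _) i ≫ m = toUnit _ ≫ e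
    rw [← cancel_mono K.arrow, Category.assoc, hm', hi', Category.id_comp, mul_inv_cancel,
      Category.assoc, he, Hom.one_def]
  · show m ≫ K.arrow = (K.arrow ⊗ₘ K.arrow) ≫ μ[G]
    rw [hm, Hom.mul_def]
    congr 1
    ext : 1 <;> simp

end Subgroup

variable {H G : E} [GrpObj H] [GrpObj G] (u : H ⟶ G) [Mono u] [IsMonHom u]

omit [SetLike E] [Mono u] in
lemma u_comp_qπ {W : E} (h : W ⟶ H) : (h ≫ u) ≫ qπ u = (1 : W ⟶ G) ≫ qπ u := by
  have := lift_rAct u (1 : W ⟶ G) h
  rw [one_mul] at this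
  rw [← this, Category.assoc, ← coequalizer.condition (fst G H) (rAct u), lift_fst_assoc]

variable [GrpObj (coequalizer (fst G H) (rAct u))] [IsMonHom (qπ u)]

lemma mapsTo_pullback {K' : Subobject (coequalizer (fst G H) (rAct u))} (hK : IsClosedGrp K') :
    Subobject.mk u ≤ (Subobject.pullback (qπ u)).obj K' ∧
      IsClosedGrp ((Subobject.pullback (qπ u)).obj K') := by
  refine ⟨?_, ?_, fun {W a b} ha hb ↦ ?_, fun {W a} ha ↦ ?_⟩
  · have hu : ((Subobject.pullback (qπ u)).obj K').Factors u := by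
      have h1 := u_comp_qπ u (𝟙 H)
      rw [Category.id_comp, MonObj.one_comp] at h1
      rw [factors_pullback_iff, h1]
      exact hK.factors_one H
    obtain ⟨t, ht⟩ := (factors_iff' _ _).mp hu
    exact Subobject.mk_le_of_comm t ht
  · rw [factors_pullback_iff, IsMonHom.one_hom]
    exact hK.one
  · rw [factors_pullback_iff] at ha hb ⊢
    rw [MonObj.mul_comp]
    exact hK.mul ha hb
  · rw [factors_pullback_iff] at ha ⊢
    rw [GrpObj.inv_comp]
    exact hK.inv ha

lemma surjOn_pullback {K : Subobject G} (hu : Subobject.mk u ≤ K) (hK : IsClosedGrp K) :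
    ∃ K' : Subobject (coequalizer (fst G H) (rAct u)),
      IsClosedGrp K' ∧ (Subobject.pullback (qπ u)).obj K' = K := by
  obtain ⟨K', hK', -⟩ := exists_subobject_pullback_eq (qπ u) K fun W a b hab ha ↦ by
    obtain ⟨h, rfl⟩ := exists_of_qπ_eq u hab
    refine hK.mul ha (Subobject.factors_of_le _ hu ?_)
    exact (Subobject.mk_factors_iff u _).mpr ⟨h, rfl⟩
  have mem {W : E} {x : W ⟶ G} : K'.Factors (x ≫ qπ u) ↔ K.Factors x := by
    rw [← factors_pullback_iff, hK']
  refine ⟨K', ⟨?_, fun {W a b} ha hb ↦ ?_, fun {W a} ha ↦ ?_⟩, hK'⟩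
  · rw [← IsMonHom.one_hom (qπ u), mem]
    exact hK.one
  · obtain ⟨W', c, x, y, hc, hx, hy⟩ := exists_lift₂ (qπ u) (qπ u) a b
    refine factors_of_epi K' c _ ?_
    rw [MonObj.comp_mul, ← hx, ← hy, ← MonObj.mul_comp, mem]
    exact hK.mul (mem.mp (hx ▸ factors_comp K' c ha)) (mem.mp (hy ▸ factors_comp K' c hb))
  · obtain ⟨W', c, x, hc, hx⟩ := exists_lift (qπ u) a
    refine factors_of_epi K' c _ ?_
    rw [GrpObj.comp_inv, ← hx, ← GrpObj.inv_comp, mem]
    exact hK.inv (mem.mp (hx ▸ factors_comp K' c ha))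

theorem normal_iff (K' : Subobject (coequalizer (fst G H) (rAct u))) :
    (∀ (Y : E) (g : Y ⟶ coequalizer (fst G H) (rAct u)) (k : Y ⟶ (K' : E)),
        ∃ k' : Y ⟶ (K' : E), g * (k ≫ K'.arrow) * g⁻¹ = k' ≫ K'.arrow) ↔
      (∀ (Y : E) (g : Y ⟶ G) (k : Y ⟶ ((Subobject.pullback (qπ u)).obj K' : E)),
        ∃ k' : Y ⟶ ((Subobject.pullback (qπ u)).obj K' : E),
          g * (k ≫ ((Subobject.pullback (qπ u)).obj K').arrow) * g⁻¹ =
            k' ≫ ((Subobject.pullback (qπ u)).obj K').arrow) := by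
  constructor
  · intro h Y g k
    have hk : K'.Factors ((k ≫ ((Subobject.pullback (qπ u)).obj K').arrow) ≫ qπ u) :=
      (factors_pullback_iff _ _ _).mp ((factors_iff' _ _).mpr ⟨k, rfl⟩)
    obtain ⟨k₀, hk₀⟩ := (factors_iff' _ _).mp hk
    obtain ⟨k', hk'⟩ := h Y (g ≫ qπ u) k₀
    have : ((Subobject.pullback (qπ u)).obj K').Factors
        (g * (k ≫ ((Subobject.pullback (qπ u)).obj K').arrow) * g⁻¹) := by
      rw [factors_pullback_iff, MonObj.mul_comp, MonObj.mul_comp, GrpObj.inv_comp, ← hk₀]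
      exact (factors_iff' _ _).mpr ⟨k', hk'.symm⟩
    obtain ⟨r, hr⟩ := (factors_iff' _ _).mp this
    exact ⟨r, hr.symm⟩
  · intro h Y g k
    obtain ⟨W', c, x, y, hc, hx, hy⟩ := exists_lift₂ (qπ u) (qπ u) g (k ≫ K'.arrow)
    have hy' : ((Subobject.pullback (qπ u)).obj K').Factors y := by
      rw [factors_pullback_iff, hy]
      exact (factors_iff' _ _).mpr ⟨c ≫ k, Category.assoc _ _ _⟩
    obtain ⟨y₀, rfl⟩ := (factors_iff' _ _).mp hy'
    obtain ⟨k', hk'⟩ := h W' x y₀
    have : K'.Factors (c ≫ (g * (k ≫ K'.arrow) * g⁻¹)) := by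
      rw [MonObj.comp_mul, MonObj.comp_mul, GrpObj.comp_inv, ← hx, ← hy, ← GrpObj.inv_comp,
        ← MonObj.mul_comp, ← MonObj.mul_comp, ← factors_pullback_iff]
      exact (factors_iff' _ _).mpr ⟨k', hk'.symm⟩
    obtain ⟨r, hr⟩ := (factors_iff' _ _).mp (factors_of_epi K' c _ this)
    exact ⟨r, hr.symm⟩

end Groth.ShfCat
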