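import Mathlib.CategoryTheory.Sites.PrecoverageToGrothendieck

/-!
# The topology generated by two precoverages, one defined on a class of objects
-/

universe w v u

open CategoryTheory Limits

namespace Groth.ShfCat

variable {C : Type u} [Category.{v} C]

/-- The hypotheses comparing a precoverage with one living on a class of objects. -/
structure GenHyp (C' : C → Prop) (P P' : Precoverage C) : Prop where
  hP'C : ∀ ⦃X : C⦄ ⦃R : Presieve X⦄, R ∈ P' X → C' X ∧ ∀ ⦃Y : C⦄ ⦃f : Y ⟶ X⦄, R f → C' Y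
  hP'id : ∀ ⦃X : C⦄, C' X → Presieve.singleton (𝟙 X) ∈ P' X
  ha : ∀ ⦃X : C⦄ ⦃R : Presieve X⦄, R ∈ P' X → ∀ ⦃T : C⦄ (g : T ⟶ X), C' T →
    ∃ _ : R.HasPullbacks g, Presieve.pullbackArrows g R ∈ P' T
  hb : ∀ X : C, ∃ R ∈ P X, ∀ ⦃Y : C⦄ ⦃f : Y ⟶ X⦄, R f → C' Y
  hc : ∀ ⦃S : C⦄ ⦃R₁ : Presieve S⦄, R₁ ∈ P' S →
    ∀ (R₂ : ∀ ⦃Y : C⦄ ⦃f : Y ⟶ S⦄, R₁ f → Presieve Y),
      (∀ ⦃Y : C⦄ ⦃f : Y ⟶ S⦄ (hf : R₁ f), R₂ hf ∈ P Y ∧ ∀ ⦃Z : C⦄ ⦃g : Z ⟶ Y⦄, R₂ hf g → C' Z) →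
    ∀ (R₃ : ∀ ⦃Y : C⦄ ⦃f : Y ⟶ S⦄ (hf : R₁ f) ⦃Z : C⦄ ⦃g : Z ⟶ Y⦄, R₂ hf g → Presieve Z),
      (∀ ⦃Y : C⦄ ⦃f : Y ⟶ S⦄ (hf : R₁ f) ⦃Z : C⦄ ⦃g : Z ⟶ Y⦄ (hg : R₂ hf g), R₃ hf hg ∈ P' Z) →
    ∃ T ∈ P' S, ∀ ⦃W : C⦄ ⦃q : W ⟶ S⦄, T q →
      ∃ (Y Z V : C) (f : Y ⟶ S) (hf : R₁ f) (g : Z ⟶ Y) (hg : R₂ hf g) (h : V ⟶ Z) (_ : R₃ hf hg h)
        (r : W ⟶ V), r ≫ h ≫ g ≫ f = q

/-- Sieves containing a composite family. -/
def IsComposite (C' : C → Prop) (P P' : Precoverage C) (X : C) (S : Sieve X) : Prop :=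
  ∃ (R : Presieve X) (_ : R ∈ P X) (_ : ∀ ⦃Y : C⦄ ⦃f : Y ⟶ X⦄, R f → C' Y)
    (R' : ∀ ⦃Y : C⦄ ⦃f : Y ⟶ X⦄, R f → Presieve Y),
    (∀ ⦃Y : C⦄ ⦃f : Y ⟶ X⦄ (hf : R f), R' hf ∈ P' Y) ∧
    ∀ ⦃Y : C⦄ ⦃f : Y ⟶ X⦄ (hf : R f) ⦃Z : C⦄ ⦃g : Z ⟶ Y⦄, R' hf g → S (g ≫ f)

variable {C' : C → Prop} {P P' : Precoverage C} (h : GenHyp C' P P')
  [P.HasPullbacks] [P.IsStableUnderBaseChange] [P.IsStableUnderComposition]

include h in
/-- Refining a family of `P` by families of objects in the class. -/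
lemma exists_refine {X : C} {R : Presieve X} (hR : R ∈ P X) :
    ∃ T ∈ P X, (∀ ⦃W : C⦄ ⦃q : W ⟶ X⦄, T q → C' W) ∧
      ∀ ⦃W : C⦄ ⦃q : W ⟶ X⦄, T q →
        ∃ (Y : C) (f : Y ⟶ X) (g : W ⟶ Y), R f ∧ g ≫ f = q := by
  obtain ⟨ι, Z, g, rfl⟩ := R.exists_eq_ofArrows
  choose R₀ hR₀ hR₀' using fun i ↦ h.hb (Z i)
  choose σ Y k hk using fun i ↦ (R₀ i).exists_eq_ofArrows
  refine ⟨_, Precoverage.comp_mem_coverings g hR k fun i ↦ hk i ▸ hR₀ i, ?_, ?_⟩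
  · rintro _ _ ⟨⟨i, j⟩⟩
    have hij : R₀ i (k i j) := by rw [hk i]; exact ⟨j⟩
    exact hR₀' i hij
  · rintro _ _ ⟨⟨i, j⟩⟩
    exact ⟨_, g i, k i j, ⟨i⟩, rfl⟩

include h in
lemma isComposite_top (X : C) : IsComposite C' P P' X ⊤ := by
  obtain ⟨R, hR, hC⟩ := h.hb X
  exact ⟨R, hR, hC, fun Y f _ ↦ Presieve.singleton (𝟙 Y), fun Y f hf ↦ h.hP'id (hC hf),
    fun _ _ _ _ _ _ ↦ trivial⟩

include h in
lemma isComposite_of_mem_left {X : C} {R : Presieve X} (hR : R ∈ P X) :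
    IsComposite C' P P' X (Sieve.generate R) := by
  obtain ⟨T, hT, hC, hTR⟩ := exists_refine h hR
  refine ⟨T, hT, hC, fun Y f _ ↦ Presieve.singleton (𝟙 Y), fun Y f hf ↦ h.hP'id (hC hf), ?_⟩
  rintro Y f hf _ _ ⟨⟩
  obtain ⟨Z, g, k, hg, rfl⟩ := hTR hf
  exact ⟨Z, k, g, hg, (Category.id_comp _).symm⟩

include h in
lemma isComposite_of_mem_right {X : C} {R : Presieve X} (hR : R ∈ P' X) :
    IsComposite C' P P' X (Sieve.generate R) := by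
  obtain ⟨R₀, hR₀, hC⟩ := h.hb X
  have key : ∀ {Y : C} (f : Y ⟶ X), C' Y → ∃ T ∈ P' Y, ∀ ⦃Z : C⦄ ⦃g : Z ⟶ Y⦄, T g →
      Sieve.generate R (g ≫ f) := by
    intro Y f hY
    obtain ⟨_, hmem⟩ := h.ha hR f hY
    refine ⟨_, hmem, fun Z g hg ↦ ?_⟩
    have := Sieve.le_generate (Presieve.pullbackArrows f R) _ _ hg
    rwa [Sieve.pullbackArrows_comm] at this
  choose T hT hT' using fun (Y : C) (f : Y ⟶ X) (hf : R₀ f) ↦ key f (hC hf)
  exact ⟨R₀, hR₀, hC, fun Y f hf ↦ T Y f hf, fun Y f hf ↦ hT Y f hf,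
    fun Y f hf Z g hg ↦ hT' Y f hf hg⟩

include h in
lemma isComposite_pullback {X Y : C} {S : Sieve X} (hS : IsComposite C' P P' X S) (g : Y ⟶ X) :
    IsComposite C' P P' Y (S.pullback g) := by
  obtain ⟨R, hR, hC, R', hR', hS⟩ := hS
  have : R.HasPullbacks g := P.hasPullbacks_of_mem g hR
  obtain ⟨T, hT, hCT, hTR⟩ := exists_refine h (Precoverage.pullbackArrows_mem g hR)
  have key : ∀ ⦃W : C⦄ ⦃q : W ⟶ Y⦄, T q →
      ∃ U ∈ P' W, ∀ ⦃Z : C⦄ ⦃k : Z ⟶ W⦄, U k → S ((k ≫ q) ≫ g) := by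
    intro W q hq
    obtain ⟨_, a, b, ha, rfl⟩ := hTR hq
    obtain ⟨V, f, hf⟩ := ha
    have := Presieve.hasPullback g hf
    obtain ⟨_, hmem⟩ := h.ha (hR' hf) (b ≫ pullback.fst f g) (hCT hq)
    refine ⟨_, hmem, fun Z k hk ↦ ?_⟩
    have hk' := Sieve.le_generate (Presieve.pullbackArrows _ (R' hf)) _ _ hk
    rw [Sieve.pullbackArrows_comm] at hk'
    obtain ⟨M, r, s, hs, hrs⟩ := hk'
    have := S.downward_closed (hS hf hs) r
    rw [reassoc_of% hrs] at this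
    simpa [pullback.condition] using this
  choose U hU hU' using key
  exact ⟨T, hT, hCT, fun W q hq ↦ U hq, fun W q hq ↦ hU hq, fun W q hq Z k hk ↦ hU' hq hk⟩

include h in
lemma isComposite_transitive {X : C} {S T : Sieve X} (hS : IsComposite C' P P' X S)
    (hT : ∀ ⦃Y : C⦄ ⦃f : Y ⟶ X⦄, S f → IsComposite C' P P' Y (T.pullback f)) :
    IsComposite C' P P' X T := by
  obtain ⟨R, hR, hC, R', hR', hS⟩ := hS
  have key : ∀ ⦃Y : C⦄ ⦃f : Y ⟶ X⦄ (hf : R f),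
      ∃ U ∈ P' Y, ∀ ⦃Z : C⦄ ⦃g : Z ⟶ Y⦄, U g → T (g ≫ f) := by
    intro Y f hf
    choose R₂ hR₂ hC₂ R₃ hR₃ hR₃' using fun ⦃Z : C⦄ ⦃g : Z ⟶ Y⦄ (hg : R' hf g) ↦ hT (hS hf hg)
    obtain ⟨U, hU, hU'⟩ := h.hc (hR' hf) (fun Z g hg ↦ R₂ hg)
      (fun Z g hg ↦ ⟨hR₂ hg, fun W k hk ↦ hC₂ hg hk⟩) (fun Z g hg W k hk ↦ R₃ hg hk)
      (fun Z g hg W k hk ↦ hR₃ hg hk)
    refine ⟨U, hU, fun W q hq ↦ ?_⟩
    obtain ⟨Z, M, V, g, hg, k, hk, l, hl, r, rfl⟩ := hU' hq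
    have := T.downward_closed (hR₃' hg hk hl) r
    simpa [Sieve.pullback_apply] using this
  choose U hU hU' using key
  exact ⟨R, hR, hC, fun Y f hf ↦ U hf, fun Y f hf ↦ hU hf, fun Y f hf Z g hg ↦ hU' hf hg⟩

include h in
/-- The covering sieves of the generated topology. -/
theorem mem_toGrothendieck_iff (X : C) (S : Sieve X) :
    S ∈ (P ⊔ P').toGrothendieck X ↔ IsComposite C' P P' X S := by
  constructor
  · intro hS
    induction hS with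
    | of X R hR => exact hR.elim (isComposite_of_mem_left h) (isComposite_of_mem_right h)
    | top X => exact isComposite_top h X
    | pullback X S _ Y f ih => exact isComposite_pullback h ih f
    | transitive X S T _ _ ih₁ ih₂ => exact isComposite_transitive h ih₁ ih₂
  · rintro ⟨R, hR, -, R', hR', hS⟩
    refine (P ⊔ P').toGrothendieck.transitive
      (Precoverage.generate_mem_toGrothendieck (Or.inl hR)) _ fun Y q hq ↦ ?_
    obtain ⟨Z, g, f, hf, rfl⟩ := hq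
    rw [Sieve.pullback_comp]
    refine (P ⊔ P').toGrothendieck.pullback_stable g
      ((P ⊔ P').toGrothendieck.superset_covering ?_
        (Precoverage.generate_mem_toGrothendieck (Or.inr (hR' hf))))
    exact (Sieve.generate_le_iff _ _).mpr fun W k hk ↦ hS hf hk

include h in
/-- Sheaves for the generated topology. -/
theorem isSheaf_toGrothendieck_iff (F : Cᵒᵖ ⥤ Type w) :
    Presieve.IsSheaf (P ⊔ P').toGrothendieck F ↔
      (∀ ⦃X : C⦄ ⦃R : Presieve X⦄, R ∈ P X → Presieve.IsSheafFor F R) ∧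
      (∀ ⦃X : C⦄ ⦃R : Presieve X⦄, R ∈ P' X → Presieve.IsSheafFor F R) := by
  refine ⟨fun H ↦ ⟨fun X R hR ↦ ?_, fun X R hR ↦ ?_⟩, fun ⟨H, H'⟩ ↦ ?_⟩
  · exact (Presieve.isSheafFor_iff_generate R).mpr
      (H _ (Precoverage.generate_mem_toGrothendieck (Or.inl hR)))
  · exact (Presieve.isSheafFor_iff_generate R).mpr
      (H _ (Precoverage.generate_mem_toGrothendieck (Or.inr hR)))
  · have hP {X Y : C} (f : Y ⟶ X) {R : Presieve X} (hR : R ∈ P X) :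
        Presieve.IsSheafFor F ((Sieve.generate R).pullback f).arrows := by
      have : R.HasPullbacks f := P.hasPullbacks_of_mem f hR
      rw [← Sieve.pullbackArrows_comm, ← Presieve.isSheafFor_iff_generate]
      exact H (Precoverage.pullbackArrows_mem f hR)
    rw [Precoverage.isSheaf_toGrothendieck_iff]
    intro X Y f R hR
    refine hR.elim (hP f) fun hR ↦ ?_
    have loc : ∀ {Z : C} (g : Z ⟶ X), C' Z →
        Presieve.IsSheafFor F ((Sieve.generate R).pullback g).arrows := by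
      intro Z g hZ
      obtain ⟨_, hmem⟩ := h.ha hR g hZ
      rw [← Sieve.pullbackArrows_comm, ← Presieve.isSheafFor_iff_generate]
      exact H' hmem
    have sep : ∀ {Z : C} (g : Z ⟶ X),
        Presieve.IsSeparatedFor F ((Sieve.generate R).pullback g).arrows := by
      intro Z g x t₁ t₂ h₁ h₂
      obtain ⟨R₁, hR₁, hC₁⟩ := h.hb Z
      refine (H hR₁).isSeparatedFor.ext fun W k hk ↦ (loc (k ≫ g) (hC₁ hk)).isSeparatedFor.ext
        fun M l hl ↦ ?_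
      have hl' : ((Sieve.generate R).pullback g).arrows (l ≫ k) := by
        simpa [Sieve.pullback_apply] using hl
      rw [← Functor.map_comp_apply, ← Functor.map_comp_apply, ← op_comp, h₁ _ hl', h₂ _ hl']
    set S := (Sieve.generate R).pullback f with hSdef
    obtain ⟨R₀, hR₀, hC⟩ := h.hb Y
    intro x hx
    have hloc : ∀ {W : C} (b : W ⟶ Y), R₀ b → ∃ t : F.obj (Opposite.op W),
        ∀ ⦃V : C⦄ (k : V ⟶ W) (hk : S (k ≫ b)), F.map k.op t = x (k ≫ b) hk := by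
      intro W b hb
      have e : ∀ {V : C} (k : V ⟶ W), ((Sieve.generate R).pullback (b ≫ f)).arrows k ↔ S (k ≫ b) :=
        fun k ↦ by simp [hSdef, Sieve.pullback_apply]
      obtain ⟨t, ht, -⟩ := loc (b ≫ f) (hC hb) (fun V k hk ↦ x (k ≫ b) ((e k).mp hk))
        (fun V₁ V₂ W' g₁ g₂ f₁ f₂ h₁ h₂ he ↦ hx g₁ g₂ _ _ (by rw [reassoc_of% he]))
      exact ⟨t, fun V k hk ↦ ht k ((e k).mpr hk)⟩
    choose t ht using @hloc
    let y : Presieve.FamilyOfElements F R₀ := fun W b hb ↦ @t W b hb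
    have hy : y.Compatible := by
      intro V₁ V₂ W g₁ g₂ b₁ b₂ hb₁ hb₂ he
      refine (sep ((g₁ ≫ b₁) ≫ f)).ext fun M l hl ↦ ?_
      have h₁ : S ((l ≫ g₁) ≫ b₁) := by simpa [hSdef, Sieve.pullback_apply] using hl
      have h₂ : S ((l ≫ g₂) ≫ b₂) := by rwa [Category.assoc, ← he, ← Category.assoc]
      rw [← Functor.map_comp_apply, ← Functor.map_comp_apply, ← op_comp, ← op_comp,
        ht b₁ hb₁ _ h₁, ht b₂ hb₂ _ h₂]
      congr 1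
      simp [he]
    obtain ⟨u, hu, -⟩ := H hR₀ y hy
    refine existsUnique_of_exists_of_unique ⟨u, fun V s hs ↦ ?_⟩ fun a b ↦ sep f x a b
    refine (hP s hR₀).isSeparatedFor.ext fun M k hk ↦ ?_
    obtain ⟨W, a, b, hb, hab⟩ := hk
    have h₁ : S (k ≫ s) := S.downward_closed hs k
    have h₂ : S (a ≫ b) := hab ▸ h₁
    rw [← Functor.map_comp_apply, ← op_comp, ← hab, op_comp, Functor.map_comp_apply, hu b hb,
      ht b hb a h₂]
    have := hx (𝟙 M) k h₂ hs (by rw [Category.id_comp, hab])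
    simpa using this

end Groth.ShfCat
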