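import Groth.Agent.ShfCat.GrpQuot

/-!
# The quotient of `G/H` by `K/H` is `G/K`
-/

open CategoryTheory Limits MonoidalCategory CartesianMonoidalCategory
open scoped CategoryTheory.MonObj

namespace Groth.ShfCat

variable {E : Type*} [Category E] [CartesianMonoidalCategory E] [SetLike E] [HasCoequalizers E]
  {H K G : E} [GrpObj H] [GrpObj K] [GrpObj G] (h : H ⟶ K) (k : K ⟶ G) [Mono h] [Mono k]
  [IsMonHom h] [IsMonHom k]

omit [Mono h] [Mono k] [HasCoequalizers E] [SetLike E] in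
lemma isMonHom_comp : IsMonHom (h ≫ k) := inferInstance

theorem third_iso
    (hn : ∀ (Y : E) (x : Y ⟶ K) (y : Y ⟶ H), ∃ y' : Y ⟶ H, x * (y ≫ h) * x⁻¹ = y' ≫ h)
    (act : coequalizer (fst G H) (rAct (h ≫ k)) ⊗ coequalizer (fst K H) (rAct h) ⟶
      coequalizer (fst G H) (rAct (h ≫ k)))
    (hact : (qπ (h ≫ k) ⊗ₘ qπ h) ≫ act = (G ◁ k) ≫ μ[G] ≫ qπ (h ≫ k))
    (qbar : coequalizer (fst G H) (rAct (h ≫ k)) ⟶ coequalizer (fst G K) (rAct k))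
    (hq : qπ (h ≫ k) ≫ qbar = qπ k) :
    Mono (lift act (fst _ _)) ∧
      ∃ wq : fst _ _ ≫ qbar = act ≫ qbar, Nonempty (IsColimit (Cofork.ofπ qbar wq)) := by
  have hact' {W : E} (g : W ⟶ G) (x : W ⟶ K) :
      lift (g ≫ qπ (h ≫ k)) (x ≫ qπ h) ≫ act = (g * (x ≫ k)) ≫ qπ (h ≫ k) := by
    rw [← lift_map_assoc, hact, lift_whiskerLeft_assoc, Hom.mul_def, Category.assoc]
  have := epi_tensorHom (qπ (h ≫ k)) (qπ h)
  refine ⟨⟨fun {W} a b hab ↦ ?_⟩, ?_, ?_⟩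
  · have ha : a ≫ act = b ≫ act := by
      simpa only [Category.assoc, lift_fst] using congr($hab ≫ fst _ _)
    have hfst : a ≫ fst _ _ = b ≫ fst _ _ := by
      simpa only [Category.assoc, lift_snd] using congr($hab ≫ snd _ _)
    obtain ⟨W₁, c₁, g₁, k₁, hc₁, hg₁, hk₁⟩ :=
      exists_lift₂ (qπ (h ≫ k)) (qπ h) (a ≫ fst _ _) (a ≫ snd _ _)
    obtain ⟨W₂, c₂, g₂, k₂, hc₂, hg₂, hk₂⟩ :=
      exists_lift₂ (qπ (h ≫ k)) (qπ h) (c₁ ≫ b ≫ fst _ _) (c₁ ≫ b ≫ snd _ _)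
    rw [← cancel_epi c₁, ← cancel_epi c₂]
    have hA : c₂ ≫ c₁ ≫ a = lift ((c₂ ≫ g₁) ≫ qπ (h ≫ k)) ((c₂ ≫ k₁) ≫ qπ h) := by
      rw [Category.assoc, Category.assoc, hg₁, hk₁]
      rw [← comp_lift, ← comp_lift, ← comp_lift, lift_fst_snd, Category.comp_id]
    have hB : c₂ ≫ c₁ ≫ b = lift (g₂ ≫ qπ (h ≫ k)) (k₂ ≫ qπ h) := by
      rw [hg₂, hk₂]
      rw [← comp_lift, ← comp_lift, ← comp_lift, lift_fst_snd, Category.comp_id]
    have h1 : (c₂ ≫ g₁) ≫ qπ (h ≫ k) = g₂ ≫ qπ (h ≫ k) := by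
      rw [hg₂, Category.assoc, hg₁, hfst]
    have h2 : ((c₂ ≫ g₁) * ((c₂ ≫ k₁) ≫ k)) ≫ qπ (h ≫ k) = (g₂ * (k₂ ≫ k)) ≫ qπ (h ≫ k) := by
      rw [← hact', ← hact', ← hA, ← hB, Category.assoc, Category.assoc, ha, Category.assoc,
        Category.assoc]
    obtain ⟨x, hx⟩ := exists_of_qπ_eq (h ≫ k) h1
    obtain ⟨y, hy⟩ := exists_of_qπ_eq (h ≫ k) h2
    rw [hA, hB, h1]
    congr 1
    rw [← hx, mul_assoc, mul_assoc, mul_right_inj, ← Category.assoc, ← Category.assoc,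
      ← MonObj.mul_comp, ← MonObj.mul_comp, cancel_mono] at hy
    obtain ⟨z, hz⟩ := hn W₂ (c₂ ≫ k₁)⁻¹ x⁻¹
    have : k₂ = (c₂ ≫ k₁) * ((z * y) ≫ h) := by
      rw [MonObj.mul_comp, ← hz, GrpObj.inv_comp, ← mul_assoc, ← mul_assoc, ← mul_assoc,
        mul_inv_cancel, one_mul, inv_inv, mul_assoc, hy, inv_mul_cancel_left]
    rw [this, mul_comp_qπ]
  · rw [← cancel_epi (qπ (h ≫ k) ⊗ₘ qπ h), tensorHom_fst_assoc, reassoc_of% hact, hq]
    exact coequalizer.condition (fst G K) (rAct k) |>.trans (Category.assoc _ _ _)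
  · have key (s : Cofork (fst _ (coequalizer (fst K H) (rAct h))) act) :
        fst G K ≫ qπ (h ≫ k) ≫ s.π = rAct k ≫ qπ (h ≫ k) ≫ s.π := by
      have := (lift (fst G K ≫ qπ (h ≫ k)) (snd G K ≫ qπ h)) ≫= s.condition
      rw [lift_fst_assoc, reassoc_of% (hact' (fst G K) (snd G K)), Category.assoc] at this
      rw [this, ← lift_rAct, lift_fst_snd, Category.id_comp]
    refine ⟨Cofork.IsColimit.mk _ (fun s ↦ coequalizer.desc (qπ (h ≫ k) ≫ s.π) (key s))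
      (fun s ↦ ?_) fun s m hm ↦ ?_⟩
    · rw [← cancel_epi (qπ (h ≫ k)), Cofork.π_ofπ, reassoc_of% hq, coequalizer.π_desc]
    · refine (cancel_epi (qπ k)).mp ?_
      rw [coequalizer.π_desc, ← hm, Cofork.π_ofπ]
      exact ((congrArg (· ≫ m) hq).symm.trans (Category.assoc _ _ _))

end Groth.ShfCat
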