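import Groth.Agent.ShfCat.GrpQuot

/-!
# The kernel pair of a subgroup mapping to a quotient
-/

open CategoryTheory Limits MonoidalCategory CartesianMonoidalCategory
open scoped CategoryTheory.MonObj

namespace Groth.ShfCat

variable {E : Type*} [Category E] [CartesianMonoidalCategory E] [SetLike E] [HasCoequalizers E]
  {H L G : E} [GrpObj H] [GrpObj L] [GrpObj G] (u : H ⟶ G) (l : L ⟶ G) [Mono u] [Mono l]
  [IsMonHom u] [IsMonHom l]

theorem isKernelPair_comp_qπ :
    IsKernelPair (l ≫ qπ u) (fst L (pullback u l)) ((L ◁ pullback.snd u l) ≫ μ[L]) := by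
  have hmul {W : E} (a : W ⟶ L) (z : W ⟶ pullback u l) :
      lift a z ≫ (L ◁ pullback.snd u l) ≫ μ[L] = a * (z ≫ pullback.snd u l) := by
    rw [lift_whiskerLeft_assoc, Hom.mul_def]
  have hkey {W : E} (a : W ⟶ L) (z : W ⟶ pullback u l) :
      (a * (z ≫ pullback.snd u l)) ≫ l ≫ qπ u = a ≫ l ≫ qπ u := by
    rw [← Category.assoc, MonObj.mul_comp, Category.assoc, ← pullback.condition, ← Category.assoc,
      mul_comp_qπ, Category.assoc]
  have w : fst L (pullback u l) ≫ l ≫ qπ u =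
      ((L ◁ pullback.snd u l) ≫ μ[L]) ≫ l ≫ qπ u := by
    have h := hkey (fst L (pullback u l)) (snd L (pullback u l))
    rw [← hmul, lift_fst_snd, Category.id_comp] at h
    exact h.symm
  have hlift : ∀ s : PullbackCone (l ≫ qπ u) (l ≫ qπ u), ∃ z : s.pt ⟶ pullback u l,
      s.fst * (z ≫ pullback.snd u l) = s.snd := fun s ↦ by
    obtain ⟨h, hh⟩ := exists_of_qπ_eq u (a := s.fst ≫ l) (b := s.snd ≫ l)
      (by simpa only [Category.assoc] using s.condition)
    refine ⟨pullback.lift h (s.fst⁻¹ * s.snd) ?_, ?_⟩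
    · rw [MonObj.mul_comp, GrpObj.inv_comp, ← hh, inv_mul_cancel_left]
    · rw [pullback.lift_snd, mul_inv_cancel_left]
  choose z hz using hlift
  refine ⟨⟨w⟩, ⟨PullbackCone.IsLimit.mk _ (fun s ↦ lift s.fst (z s)) (fun s ↦ lift_fst _ _)
    (fun s ↦ (hmul _ _).trans (hz s)) (fun s m h₁ h₂ ↦ ?_)⟩⟩
  refine CartesianMonoidalCategory.hom_ext _ _ (by rw [lift_fst]; exact h₁) ?_
  rw [lift_snd]
  have hm : m = lift (m ≫ fst _ _) (m ≫ snd _ _) := by rw [← comp_lift, lift_fst_snd, Category.comp_id]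
  have h₃ : (m ≫ snd _ _) ≫ pullback.snd u l = z s ≫ pullback.snd u l := by
    rw [hm, hmul, h₁, ← hz s, mul_right_inj] at h₂
    exact h₂
  refine pullback.hom_ext ?_ h₃
  simpa only [← cancel_mono u, Category.assoc, pullback.condition] using congr($h₃ ≫ l)

end Groth.ShfCat
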